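import Groth.Agent.Lib.TorInter3.Tor
import Groth.Agent.Lib.RegSeqLoc.AnyBaseChange
import Groth.Agent.Lib.RegSeqLoc.Scheme
import Groth.Agent.Lib.DimCut.Basic
import Groth.Agent.Lib.Depth.CM
import Groth.Agent.Lib.HLVT.Sdim
import Groth.Agent.Lib.HLVT.CanonSupp
import Groth.Prelude.Def_RegImm
import Groth.Prelude.Def_DRing2

/-!
# Intersections of regular immersions in the expected codimension
-/

set_option autoImplicit false
set_option linter.style.haveILetI false
universe u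

open CategoryTheory CategoryTheory.Limits AlgebraicGeometry RingTheory.Sequence IsLocalRing

namespace GrothLib.TorInter3

/-- In a Cohen–Macaulay local ring a sequence of the expected height is regular. -/
theorem isWeaklyRegular_of_height {R : Type u} [CommRing R] [LocCoh.IsCohenMacaulayLocalRing R] (rs : List R)
    (hm : ∀ r ∈ rs, r ∈ maximalIdeal R)
    (h : ∀ q : Ideal R, q.IsPrime → Ideal.ofList rs ≤ q → (rs.length : ℕ∞) ≤ q.height) :
    IsWeaklyRegular R rs := by
  refine GrothLib.Depth.isWeaklyRegular_of_le_idealDepth rs hm ?_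
  have hI : Ideal.ofList rs ≠ ⊤ := ne_top_of_le_ne_top (maximalIdeal.isMaximal R).ne_top (Ideal.span_le.2 hm)
  by_contra hlt
  obtain ⟨t, ht⟩ := ENat.ne_top_iff_exists.1 (GrothLib.Depth.idealDepth_ne_top (M := R) hI)
  rw [← ht, Nat.cast_le, not_le] at hlt
  have hCM : LocCoh.IsCohenMacaulayModule R R := LocCoh.IsCohenMacaulayLocalRing.supportDim_eq_depth
  have hdim := GrothLib.Depth.supportDim_eq_add_idealDepth t hI R hCM ht.symm
  rw [Module.supportDim_self_eq_ringKrullDim, Ideal.smul_eq_mul, Ideal.mul_top,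
    Module.supportDim_quotient_eq_ringKrullDim] at hdim
  obtain ⟨N, hN⟩ : ∃ d : ℕ, ringKrullDim R = d := by
    obtain ⟨d, hd⟩ := ENat.ne_top_iff_exists.1
      (Ideal.height_ne_top (I := maximalIdeal R) Ideal.IsPrime.ne_top')
    exact ⟨d, by rw [← IsLocalRing.maximalIdeal_height_eq_ringKrullDim, ← hd]; rfl⟩
  have hle : ringKrullDim (R ⧸ Ideal.ofList rs) ≤ ((N - rs.length : ℕ) : WithBot ℕ∞) ∧ rs.length ≤ N := by
    have key : ∀ q : Ideal R, q.IsPrime → Ideal.ofList rs ≤ q →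
        ringKrullDim (R ⧸ q) ≤ ((N - rs.length : ℕ) : WithBot ℕ∞) ∧ rs.length ≤ N := by
      intro q hq hle
      have h1 := GrothLib.HLVT.height_add_dim_quotient_le q
      rw [hN] at h1
      obtain ⟨hh, hh'⟩ := ENat.ne_top_iff_exists.1 (Ideal.height_ne_top (I := q) hq.ne_top)
      have h2 := h q hq hle
      rw [← hh', Nat.cast_le] at h2
      rw [← hh'] at h1
      obtain ⟨e, he⟩ : ∃ e : ℕ, ringKrullDim (R ⧸ q) = e := by
        haveI : IsLocalRing (R ⧸ q) := .of_surjective' (Ideal.Quotient.mk q) Ideal.Quotient.mk_surjective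
        obtain ⟨d, hd⟩ := ENat.ne_top_iff_exists.1
          (Ideal.height_ne_top (I := maximalIdeal (R ⧸ q)) Ideal.IsPrime.ne_top')
        exact ⟨d, by rw [← IsLocalRing.maximalIdeal_height_eq_ringKrullDim, ← hd]; rfl⟩
      rw [he] at h1 ⊢
      have h1' : hh + e ≤ N := by exact_mod_cast h1
      exact ⟨by exact_mod_cast (show e ≤ N - rs.length by omega), by omega⟩
    exact ⟨GrothLib.HLVT.ringKrullDim_quotient_le_of_forall _ _ fun q hq hle => (key q hq hle).1,
      (key (maximalIdeal R) inferInstance (Ideal.span_le.2 hm)).2⟩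
  rw [hN] at hdim
  have h3 : ((N : ℕ) : WithBot ℕ∞) ≤ ((N - rs.length + t : ℕ) : WithBot ℕ∞) := by
    push_cast
    exact hdim.le.trans (add_le_add hle.1 le_rfl)
  have h3' : N ≤ N - rs.length + t := by exact_mod_cast h3
  omega

section Scheme

variable {X Y Z : Scheme.{u}}

/-- Local equations of a regular closed immersion at any point of an affine chart. -/
theorem exists_local_seq (i : Z ⟶ X) [IsClosedImmersion i] {c : ℕ}
    (hi : RegImm.IsRegularImmersionOfCodim RegImm.Kind.regular c i) (U : X.affineOpens) (x : X) (hx : x ∈ U.1) :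
    ∃ rs : List (X.presheaf.stalk x),
      (RingHom.ker (i.app U.1).hom).map (X.presheaf.germ U.1 x hx).hom = Ideal.ofList rs ∧
      IsWeaklyRegular (X.presheaf.stalk x) rs ∧
      (x ∈ Set.range i → rs.length = c ∧ ∀ r ∈ rs, r ∈ maximalIdeal (X.presheaf.stalk x)) ∧
      (x ∉ Set.range i → rs = [1]) := by
  by_cases hr : x ∈ Set.range i
  · obtain ⟨z, rfl⟩ := hr
    obtain ⟨U₀, hz, -, rs, hlen, hreg, hker⟩ := hi.2 z
    have hk := GrothLib.RegSeqLoc.ker_stalkMap i z U₀ hz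
    rw [Scheme.Hom.ker_apply, hker, Ideal.map_ofList] at hk
    have hle : Ideal.ofList (rs.map (X.presheaf.germ U₀.1 (i z) hz).hom) ≤
        maximalIdeal (X.presheaf.stalk (i z)) :=
      hk.symm.le.trans (IsLocalRing.le_maximalIdeal (RingHom.ker_ne_top _))
    refine ⟨rs.map (X.presheaf.germ U₀.1 (i z) hz).hom, ?_,
      (GrothLib.RegSeqLoc.isRegular_stalk U₀.2 hz (show IsRegular _ rs from hreg).toIsWeaklyRegular hle).toIsWeaklyRegular,
      fun _ => ⟨by rw [List.length_map, hlen], fun r hr => hle (Ideal.subset_span hr)⟩,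
      fun h => absurd (Set.mem_range_self z) h⟩
    rw [← i.ker_apply, ← GrothLib.RegSeqLoc.ker_stalkMap i z U hx]
    exact hk
  · refine ⟨[1], ?_, ?_, fun h => absurd h hr, fun _ => ?_⟩
    · rw [Ideal.ofList_singleton, Ideal.span_singleton_one]
      by_contra hne
      let _ : Algebra Γ(X, U.1) (X.presheaf.stalk x) :=
        TopCat.Presheaf.algebra_section_stalk X.presheaf (⟨x, hx⟩ : U.1)
      haveI : IsLocalization.AtPrime (X.presheaf.stalk x) (U.2.primeIdealOf ⟨x, hx⟩).asIdeal :=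
        U.2.isLocalization_stalk ⟨x, hx⟩
      refine hr ?_
      have hle : RingHom.ker (i.app U.1).hom ≤ (U.2.primeIdealOf ⟨x, hx⟩).asIdeal := fun a ha => by
        by_contra hap
        exact hne (Ideal.eq_top_of_isUnit_mem _ (Ideal.mem_map_of_mem _ ha)
          (IsLocalization.map_units (X.presheaf.stalk x) (⟨a, hap⟩ : (U.2.primeIdealOf ⟨x, hx⟩).asIdeal.primeCompl)))
      have hmem : U.2.primeIdealOf ⟨x, hx⟩ ∈ U.2.fromSpec ⁻¹' Set.range i := by
        rw [GrothLib.DimCut.range_inter_eq_zeroLocus i U.2]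
        exact hle
      obtain ⟨z, hz⟩ := hmem
      exact ⟨z, hz.trans (IsAffineOpen.fromSpec_primeIdealOf U.2 ⟨x, hx⟩)⟩
    · rw [isWeaklyRegular_singleton_iff]
      exact IsSMulRegular.one _
    · rfl

variable (iY : Y ⟶ X) (iZ : Z ⟶ X) [IsClosedImmersion iY] [IsClosedImmersion iZ]

theorem ker_inter (U : X.affineOpens) :
    RingHom.ker ((pullback.fst iY iZ ≫ iY).app U.1).hom =
      RingHom.ker (iY.app U.1).hom ⊔ RingHom.ker (iZ.app U.1).hom := by
  have hV : IsAffineOpen (iY ⁻¹ᵁ U.1) := U.2.preimage iY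
  obtain ⟨-, hk⟩ := GrothLib.RegSeqLoc.ker_of_isPullback (IsPullback.of_hasPullback iY iZ).flip U inferInstance hV
    (le_refl _)
  have hc : ((pullback.fst iY iZ ≫ iY).app U.1).hom =
      ((pullback.fst iY iZ).app (iY ⁻¹ᵁ U.1)).hom.comp (iY.app U.1).hom := by
    rw [Scheme.Hom.comp_app]; rfl
  rw [hc]
  refine (RingHom.comap_ker _ _).symm.trans ?_
  refine (congrArg (Ideal.comap _) hk).trans ?_
  rw [← Scheme.Hom.app_eq_appLE]
  rw [Ideal.comap_map_of_surjective _ (iY.app_surjective U.1 U.2), ← RingHom.ker_eq_comap_bot, sup_comm]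

variable {a b : ℕ}

/-- Both sequences together are regular at a common point. -/
theorem isWeaklyRegular_inter [IsLocallyNoetherian X]
    (hCM : ∀ x : X, LocCoh.IsCohenMacaulayLocalRing (X.presheaf.stalk x))
    (hcodim : ∀ w : ↥(pullback iY iZ), ((a + b : ℕ) : WithBot ℕ∞) ≤
      ringKrullDim (X.presheaf.stalk ((pullback.fst iY iZ ≫ iY).base w)))
    (U : X.affineOpens) (x : X) (hx : x ∈ U.1) (fs : List (X.presheaf.stalk x))
    (hle : (RingHom.ker (iY.app U.1).hom ⊔ RingHom.ker (iZ.app U.1).hom).map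
      (X.presheaf.germ U.1 x hx).hom ≤ Ideal.ofList fs)
    (hlen : fs.length = a + b) (hm : ∀ r ∈ fs, r ∈ maximalIdeal (X.presheaf.stalk x)) :
    IsWeaklyRegular (X.presheaf.stalk x) fs := by
  haveI := hCM x
  refine isWeaklyRegular_of_height fs hm fun q hq hfq => ?_
  let _ : Algebra Γ(X, U.1) (X.presheaf.stalk x) :=
    TopCat.Presheaf.algebra_section_stalk X.presheaf (⟨x, hx⟩ : U.1)
  let S := (U.2.primeIdealOf ⟨x, hx⟩).asIdeal.primeCompl
  haveI : IsLocalization.AtPrime (X.presheaf.stalk x) (U.2.primeIdealOf ⟨x, hx⟩).asIdeal :=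
    U.2.isLocalization_stalk ⟨x, hx⟩
  let q' : PrimeSpectrum Γ(X, U.1) := ⟨q.comap (algebraMap Γ(X, U.1) (X.presheaf.stalk x)), inferInstance⟩
  have hq' : RingHom.ker ((pullback.fst iY iZ ≫ iY).app U.1).hom ≤ q'.asIdeal := by
    rw [ker_inter]
    exact Ideal.map_le_iff_le_comap.1 (hle.trans hfq)
  have hmem : q' ∈ U.2.fromSpec ⁻¹' Set.range (pullback.fst iY iZ ≫ iY) := by
    rw [GrothLib.DimCut.range_inter_eq_zeroLocus (pullback.fst iY iZ ≫ iY) U.2]
    exact hq'
  obtain ⟨w, hw⟩ := hmem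
  have h1 := hcodim w
  rw [← IsLocalization.height_under S q]
  have hyU : U.2.fromSpec q' ∈ U.1 := by
    rw [← SetLike.mem_coe, ← U.2.range_fromSpec]
    exact Set.mem_range_self q'
  have h2 : ∀ x' : X, x' = U.2.fromSpec q' → ringKrullDim (X.presheaf.stalk x') = q'.asIdeal.height := by
    rintro _ rfl
    let _ : Algebra Γ(X, U.1) (X.presheaf.stalk (U.2.fromSpec q')) :=
      TopCat.Presheaf.algebra_section_stalk X.presheaf (⟨_, hyU⟩ : U.1)
    haveI : IsLocalization.AtPrime (X.presheaf.stalk (U.2.fromSpec q')) q'.asIdeal := U.2.isLocalization_stalk' q' hyU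
    exact IsLocalization.AtPrime.ringKrullDim_eq_height q'.asIdeal _
  rw [h2 _ hw] at h1
  rw [hlen]
  exact WithBot.coe_le_coe.1 h1

variable [IsLocallyNoetherian X]
  (hCM : ∀ x : X, LocCoh.IsCohenMacaulayLocalRing (X.presheaf.stalk x))
  (hY : RegImm.IsRegularImmersionOfCodim RegImm.Kind.regular a iY)
  (hZ : RegImm.IsRegularImmersionOfCodim RegImm.Kind.regular b iZ)
  (hcodim : ∀ w : ↥(pullback iY iZ), ((a + b : ℕ) : WithBot ℕ∞) ≤
    ringKrullDim (X.presheaf.stalk ((pullback.fst iY iZ ≫ iY).base w)))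

include hCM hY hZ hcodim in
theorem isRegularImmersion_inter :
    RegImm.IsRegularImmersionOfCodim RegImm.Kind.regular (a + b) (pullback.fst iY iZ ≫ iY) := by
  refine ⟨inferInstance, fun w => ?_⟩
  obtain ⟨U, hU, hzU, -⟩ := TopologicalSpace.Opens.isBasis_iff_nbhd.1 X.isBasis_affineOpens
    (TopologicalSpace.Opens.mem_top ((pullback.fst iY iZ ≫ iY) w))
  obtain ⟨fs, hfs, -, hfr, -⟩ := exists_local_seq iY hY ⟨U, hU⟩ _ hzU
  obtain ⟨gs, hgs, -, hgr, -⟩ := exists_local_seq iZ hZ ⟨U, hU⟩ _ hzU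
  obtain ⟨hfl, hfm⟩ := hfr ⟨pullback.fst iY iZ w, rfl⟩
  obtain ⟨hgl, hgm⟩ := hgr ⟨pullback.snd iY iZ w, by
    rw [← Scheme.Hom.comp_apply, ← pullback.condition]⟩
  have hk : (RingHom.ker (iY.app U).hom ⊔ RingHom.ker (iZ.app U).hom).map
      (X.presheaf.germ U _ hzU).hom = Ideal.ofList (fs ++ gs) := by
    rw [Ideal.map_sup, hfs, hgs, Ideal.ofList_append]
  have hm : ∀ r ∈ fs ++ gs, r ∈ maximalIdeal _ := fun r hr => (List.mem_append.1 hr).elim (hfm r) (hgm r)
  have hlen : (fs ++ gs).length = a + b := by rw [List.length_append, hfl, hgl]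
  have hw := isWeaklyRegular_inter iY iZ hCM hcodim ⟨U, hU⟩ _ hzU _ hk.le hlen hm
  haveI : IsNoetherianRing Γ(X, U) := IsLocallyNoetherian.component_noetherian (X := X) ⟨U, hU⟩
  have H := GrothLib.RegSeqLoc.exists_basicOpen_isRegular hU hzU _ _
    (GrothLib.RegularIdeal.isRegular_of_le hw (Ideal.span_le.2 hm)) hk
  obtain ⟨g, hzg, rs, hreg, hI⟩ := H
  let W : X.affineOpens := ⟨X.basicOpen g, hU.basicOpen g⟩
  have hker : RingHom.ker ((pullback.fst iY iZ ≫ iY).app W.1).hom = Ideal.ofList rs := by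
    rw [← Scheme.Hom.ker_apply, ← (pullback.fst iY iZ ≫ iY).ker.map_ideal (U := W) (V := ⟨U, hU⟩) (X.basicOpen_le g),
      Scheme.Hom.ker_apply, ker_inter]
    exact hI
  refine ⟨W, hzg, inferInstance, rs, ?_, hreg, hker⟩
  -- the length is that of the stalk sequence
  have h2 := GrothLib.RegSeqLoc.ker_stalkMap (pullback.fst iY iZ ≫ iY) w W hzg
  have h3 := GrothLib.RegSeqLoc.ker_stalkMap (pullback.fst iY iZ ≫ iY) w ⟨U, hU⟩ hzU
  rw [Scheme.Hom.ker_apply, hker, Ideal.map_ofList] at h2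
  rw [Scheme.Hom.ker_apply, ker_inter, hk] at h3
  have hm' : ∀ r ∈ rs.map (X.presheaf.germ W.1 _ hzg).hom, r ∈ maximalIdeal _ := fun r hr =>
    (h2.symm.le.trans (IsLocalRing.le_maximalIdeal (RingHom.ker_ne_top _))) (Ideal.subset_span hr)
  have hw' := (GrothLib.RegSeqLoc.isRegular_stalk W.2 hzg hreg.toIsWeaklyRegular (Ideal.span_le.2 hm')).toIsWeaklyRegular
  haveI := hCM ((pullback.fst iY iZ ≫ iY) w)
  have e1 := GrothLib.Depth.idealDepth_span_eq_length (M := X.presheaf.stalk ((pullback.fst iY iZ ≫ iY) w)) _ hm hw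
  have e2 := GrothLib.Depth.idealDepth_span_eq_length (M := X.presheaf.stalk ((pullback.fst iY iZ ≫ iY) w)) _ hm' hw'
  rw [← h2] at e2
  rw [← h3, e2, Nat.cast_inj, List.length_map] at e1
  exact e1.trans hlen

include hCM hY hZ hcodim in
theorem subsingleton_tor_inter (U : X.Opens) (hU : IsAffineOpen U) (i : ℕ) (hi : 0 < i) :
    Subsingleton (@DRing.Tor Γ(X, U) _ i Γ(Y, iY ⁻¹ᵁ U) Γ(Z, iZ ⁻¹ᵁ U) _ (iY.app U).hom.toModule _
      (iZ.app U).hom.toModule) := by
  obtain ⟨p, rfl⟩ : ∃ p, i = p + 1 := ⟨i - 1, by omega⟩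
  letI := (iY.app U).hom.toModule
  letI := (iZ.app U).hom.toModule
  let eM : (Γ(X, U) ⧸ RingHom.ker (iY.app U).hom) ≃ₗ[Γ(X, U)] Γ(Y, iY ⁻¹ᵁ U) :=
    { (RingHom.quotientKerEquivOfSurjective (iY.app_surjective U hU)).toAddEquiv with
      map_smul' := fun r x => by
        obtain ⟨x, rfl⟩ := Ideal.Quotient.mk_surjective x
        exact map_mul (iY.app U).hom r x }
  let eN : (Γ(X, U) ⧸ RingHom.ker (iZ.app U).hom) ≃ₗ[Γ(X, U)] Γ(Z, iZ ⁻¹ᵁ U) :=
    { (RingHom.quotientKerEquivOfSurjective (iZ.app_surjective U hU)).toAddEquiv with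
      map_smul' := fun r x => by
        obtain ⟨x, rfl⟩ := Ideal.Quotient.mk_surjective x
        exact map_mul (iZ.app U).hom r x }
  refine subsingleton_tor_of_local (RingHom.ker (iY.app U).hom) (RingHom.ker (iZ.app U).hom) (fun m hm => ?_)
    eM eN p
  let x : X := hU.fromSpec ⟨m, hm.isPrime⟩
  have hxU : x ∈ U := by
    rw [← SetLike.mem_coe, ← hU.range_fromSpec]
    exact Set.mem_range_self _
  let _ : Algebra Γ(X, U) (X.presheaf.stalk x) := TopCat.Presheaf.algebra_section_stalk X.presheaf (⟨x, hxU⟩ : U)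
  haveI : IsLocalization.AtPrime (X.presheaf.stalk x) m := hU.isLocalization_stalk' ⟨m, hm.isPrime⟩ hxU
  obtain ⟨fs, hfs, hfw, hfr, hfn⟩ := exists_local_seq iY hY ⟨U, hU⟩ x hxU
  obtain ⟨gs, hgs, -, hgr, hgn⟩ := exists_local_seq iZ hZ ⟨U, hU⟩ x hxU
  refine ⟨X.presheaf.stalk x, inferInstance, inferInstance, inferInstance, fs, hfs, hfw, ?_⟩
  rw [show algebraMap Γ(X, U) (X.presheaf.stalk x) = (X.presheaf.germ U x hxU).hom from rfl, hgs]
  by_cases hb : x ∈ Set.range iY ∧ x ∈ Set.range iZ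
  · obtain ⟨hfl, hfm⟩ := hfr hb.1
    obtain ⟨hgl, hgm⟩ := hgr hb.2
    have h := isWeaklyRegular_inter iY iZ hCM hcodim ⟨U, hU⟩ x hxU (gs ++ fs)
      (by rw [Ideal.map_sup, hfs, hgs, Ideal.ofList_append, sup_comm])
      (by rw [List.length_append, hfl, hgl, add_comm])
      (fun r hr => (List.mem_append.1 hr).elim (hgm r) (hfm r))
    rw [isWeaklyRegular_append_iff] at h
    refine ((Submodule.quotEquivOfEq _ _ ?_).isWeaklyRegular_congr fs).1 h.2
    rw [Ideal.smul_eq_mul, Ideal.mul_top]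
  · rcases not_and_or.1 hb with hn | hn
    · rw [hfn hn, isWeaklyRegular_singleton_iff]
      exact IsSMulRegular.one _
    · haveI : Subsingleton (X.presheaf.stalk x ⧸ Ideal.ofList gs) :=
        Ideal.Quotient.subsingleton_iff.2 (by rw [hgn hn, Ideal.ofList_singleton, Ideal.span_singleton_one])
      refine ⟨fun k hk => ?_⟩
      haveI := Function.Surjective.subsingleton
        (Submodule.mkQ_surjective ((Ideal.ofList (fs.take k)) • (⊤ : Submodule (X.presheaf.stalk x) (X.presheaf.stalk x ⧸ Ideal.ofList gs))))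
      exact fun a b _ => Subsingleton.elim a b

end Scheme

end GrothLib.TorInter3
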