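import Groth.Agent.Lib.DCxKFlat.Balance
import Groth.Agent.Lib.DCxRing.Covers
import Mathlib.RingTheory.Regular.RegularSequence
import Mathlib.RingTheory.Localization.BaseChange
import Mathlib.RingTheory.LocalProperties.Exactness
import Mathlib.RingTheory.TensorProduct.Quotient

/-!
# Vanishing of `Tor` of locally regular quotients
-/

set_option autoImplicit false
set_option linter.style.haveILetI false
universe u

open CategoryTheory CategoryTheory.Limits HomologicalComplex TensorProduct RingTheory.Sequence Pointwise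

namespace GrothLib.TorInter3

variable {A : Type u} [CommRing A]

/-- Exactness of `X ⊗ P` in degree `i`. -/
def LExact (P : DRing.Cx A) (X : Type u) [AddCommGroup X] [Module A X] (i : ℤ) : Prop :=
  Function.Exact ((P.d (i - 1) i).hom.lTensor X) ((P.d i (i + 1)).hom.lTensor X)

theorem lExact_iff_tExact (P : DRing.Cx A) (X : Type u) [AddCommGroup X] [Module A X] (i : ℤ) :
    DR.TExact P X i ↔ LExact P X i :=
  Function.Exact.iff_of_ladder_linearEquiv
    (e₁ := TensorProduct.comm A X (P.X (i - 1))) (e₂ := TensorProduct.comm A X (P.X i))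
    (e₃ := TensorProduct.comm A X (P.X (i + 1)))
    (TensorProduct.ext' fun _ _ => rfl) (TensorProduct.ext' fun _ _ => rfl)

theorem lExact_congr (P : DRing.Cx A) {X Y : Type u} [AddCommGroup X] [Module A X] [AddCommGroup Y] [Module A Y]
    (e : X ≃ₗ[A] Y) (i : ℤ) : LExact P X i ↔ LExact P Y i :=
  (Function.Exact.iff_of_ladder_linearEquiv
    (e₁ := e.rTensor (P.X (i - 1))) (e₂ := e.rTensor (P.X i)) (e₃ := e.rTensor (P.X (i + 1)))
    (f₁₂ := (P.d (i - 1) i).hom.lTensor X) (f₂₃ := (P.d i (i + 1)).hom.lTensor X)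
    (g₁₂ := (P.d (i - 1) i).hom.lTensor Y) (g₂₃ := (P.d i (i + 1)).hom.lTensor Y)
    (TensorProduct.ext' fun _ _ => rfl) (TensorProduct.ext' fun _ _ => rfl)).symm

section Shift

variable {R : Type u} [CommRing R] [Algebra A R]
  {X : Type u} [AddCommGroup X] [Module R X] [Module A X] [IsScalarTower A R X]

theorem rTensor_smul_apply (r : R) (Q : Type u) [AddCommGroup Q] [Module A Q] (z : X ⊗[A] Q) :
    (((LinearMap.lsmul R X r).restrictScalars A).rTensor Q) z = r • z := by
  induction z using TensorProduct.induction_on with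
  | zero => simp
  | tmul x y => rfl
  | add x y hx hy => rw [map_add, hx, hy, smul_add]

theorem smul_injective (r : R) (hr : IsSMulRegular X r) (Q : Type u) [AddCommGroup Q] [Module A Q]
    [Module.Flat A Q] : IsSMulRegular (X ⊗[A] Q) r := fun z w h => by
  refine Module.Flat.rTensor_preserves_injective_linearMap ((LinearMap.lsmul R X r).restrictScalars A) hr ?_
  rw [rTensor_smul_apply, rTensor_smul_apply]
  exact h

variable (X) in
/-- `X ⊗ Q → (X/rX) ⊗ Q`. -/
noncomputable abbrev proj (r : R) (Q : Type u) [AddCommGroup Q] [Module A Q] :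
    X ⊗[A] Q →ₗ[R] QuotSMulTop r X ⊗[A] Q :=
  AlgebraTensorModule.rTensor A Q (Submodule.mkQ (r • (⊤ : Submodule R X)))

theorem proj_surjective (r : R) (Q : Type u) [AddCommGroup Q] [Module A Q] :
    Function.Surjective (proj (A := A) X r Q) := fun z => by
  induction z using TensorProduct.induction_on with
  | zero => exact ⟨0, map_zero _⟩
  | tmul x y =>
    obtain ⟨x, rfl⟩ := Submodule.mkQ_surjective _ x
    exact ⟨x ⊗ₜ y, rfl⟩
  | add x y hx hy =>
    obtain ⟨a, rfl⟩ := hx
    obtain ⟨b, rfl⟩ := hy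
    exact ⟨a + b, map_add _ _ _⟩

theorem proj_eq_zero_iff (r : R) (Q : Type u) [AddCommGroup Q] [Module A Q] (z : X ⊗[A] Q) :
    proj X r Q z = 0 ↔ ∃ w, r • w = z := by
  have hex : Function.Exact ((LinearMap.lsmul R X r).restrictScalars A)
      ((Submodule.mkQ (r • (⊤ : Submodule R X))).restrictScalars A) := fun y => by
    change Submodule.Quotient.mk y = 0 ↔ _
    rw [Submodule.Quotient.mk_eq_zero, Submodule.mem_smul_pointwise_iff_exists]
    simp
  have h := rTensor_exact Q hex (Submodule.mkQ_surjective _) z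
  constructor
  · intro hz
    obtain ⟨w, hw⟩ := h.1 hz
    exact ⟨w, (rTensor_smul_apply r Q w).symm.trans hw⟩
  · rintro ⟨w, rfl⟩
    exact h.2 ⟨w, rTensor_smul_apply r Q w⟩

theorem proj_lTensor (r : R) {Q Q' : Type u} [AddCommGroup Q] [Module A Q] [AddCommGroup Q'] [Module A Q']
    (d : Q →ₗ[A] Q') (z : X ⊗[A] Q) :
    proj X r Q' (d.lTensor X z) = d.lTensor (QuotSMulTop r X) (proj X r Q z) := by
  induction z using TensorProduct.induction_on with
  | zero => simp
  | tmul x y => rfl
  | add x y hx hy => simp only [map_add, hx, hy]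

theorem lTensor_smul {Q Q' : Type u} [AddCommGroup Q] [Module A Q] [AddCommGroup Q'] [Module A Q']
    (d : Q →ₗ[A] Q') (r : R) (z : X ⊗[A] Q) : d.lTensor X (r • z) = r • d.lTensor X z :=
  (AlgebraTensorModule.lTensor R X d).map_smul r z

/-- An element regular on `X` and on `X ⊗ N` preserves exactness of `X ⊗ P` in negative degrees. -/
theorem lExact_quotSMulTop (P : DRing.Cx A) (hP : DRing.TermwiseFlat P) {N : Type u} [AddCommGroup N] [Module A N]
    (ε : P.X 0 →ₗ[A] N) (hε : Function.Surjective ε) (hex : Function.Exact (P.d (-1) 0).hom ε)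
    (r : R) (hr : IsSMulRegular X r) (hrN : IsSMulRegular (X ⊗[A] N) r)
    (h : ∀ i < 0, LExact P X i) (i : ℤ) (hi : i < 0) : LExact P (QuotSMulTop r X) i := by
  intro y
  constructor
  swap
  · rintro ⟨v, rfl⟩
    rw [← LinearMap.comp_apply, ← LinearMap.lTensor_comp, ← ModuleCat.hom_comp, P.d_comp_d]
    exact LinearMap.congr_fun (LinearMap.lTensor_zero (QuotSMulTop r X)) v
  intro hy
  obtain ⟨z, rfl⟩ := proj_surjective r _ y
  rw [← proj_lTensor, proj_eq_zero_iff] at hy
  obtain ⟨w, hw⟩ := hy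
  have hwr : ∃ v, (P.d i (i + 1)).hom.lTensor X v = w := by
    rcases lt_or_eq_of_le (show i + 1 ≤ 0 by omega) with hlt | heq
    · haveI := hP (i + 1 + 1)
      have hd : (P.d (i + 1) (i + 1 + 1)).hom.lTensor X w = 0 := by
        refine smul_injective r hr (P.X (i + 1 + 1)) ?_
        change r • _ = r • (0 : X ⊗[A] P.X (i + 1 + 1))
        rw [smul_zero, ← lTensor_smul, hw, ← LinearMap.comp_apply, ← LinearMap.lTensor_comp,
          ← ModuleCat.hom_comp, P.d_comp_d]
        exact LinearMap.congr_fun (LinearMap.lTensor_zero X) z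
      have h1 := (h (i + 1) hlt w).1 hd
      rwa [add_sub_cancel_right] at h1
    · obtain rfl : i = -1 := by omega
      change ∃ v, (P.d (-1) 0).hom.lTensor X v = w
      change r • w = (P.d (-1) 0).hom.lTensor X z at hw
      have hεX := lTensor_exact X hex hε
      refine (hεX w).1 (hrN ?_)
      change r • _ = r • (0 : X ⊗[A] N)
      rw [smul_zero, ← lTensor_smul, hw]
      exact (hεX _).2 ⟨z, rfl⟩
  obtain ⟨v, rfl⟩ := hwr
  have h2 : (P.d i (i + 1)).hom.lTensor X (z - r • v) = 0 := by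
    rw [map_sub, lTensor_smul, hw, sub_self]
  obtain ⟨s, hs⟩ := (h i hi _).1 h2
  refine ⟨proj X r _ s, ?_⟩
  rw [← proj_lTensor, hs, map_sub, (proj_eq_zero_iff r _ _).2 ⟨v, rfl⟩, sub_zero]

/-- `(X/rX) ⊗ N = (X ⊗ N)/r`. -/
noncomputable def quotTensorEquiv (r : R) (N : Type u) [AddCommGroup N] [Module A N] :
    QuotSMulTop r (X ⊗[A] N) ≃ₗ[R] QuotSMulTop r X ⊗[A] N :=
  (Submodule.quotEquivOfEq _ _ (Submodule.ext fun z => by
    rw [LinearMap.mem_ker, proj_eq_zero_iff, Submodule.mem_smul_pointwise_iff_exists]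
    simp)).trans (LinearMap.quotKerEquivOfSurjective (proj X r N) (proj_surjective r N))

end Shift

theorem lExact_quotient {R : Type u} [CommRing R] [Algebra A R] (P : DRing.Cx A) (hP : DRing.TermwiseFlat P)
    {N : Type u} [AddCommGroup N] [Module A N] (ε : P.X 0 →ₗ[A] N) (hε : Function.Surjective ε)
    (hex : Function.Exact (P.d (-1) 0).hom ε) (rs : List R) :
    ∀ (X : Type u) [AddCommGroup X] [Module R X] [Module A X] [IsScalarTower A R X],
      IsWeaklyRegular X rs → IsWeaklyRegular (X ⊗[A] N) rs → (∀ i < 0, LExact P X i) →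
      ∀ i < 0, LExact P (X ⧸ (Ideal.ofList rs • ⊤ : Submodule R X)) i := by
  induction rs with
  | nil =>
    intro X _ _ _ _ _ _ h i hi
    exact (lExact_congr P (((Ideal.ofList ([] : List R) • (⊤ : Submodule R X)).quotEquivOfEqBot
      (by rw [Ideal.ofList_nil, Submodule.bot_smul])).restrictScalars A) i).2 (h i hi)
  | cons r rs ih =>
    intro X _ _ _ _ hX hN h i hi
    rw [isWeaklyRegular_cons_iff] at hX hN
    refine (lExact_congr P ((Submodule.quotOfListConsSMulTopEquivQuotSMulTopInner X r rs).restrictScalars A) i).2 ?_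
    exact ih (QuotSMulTop r X) hX.2 ((quotTensorEquiv r N).isWeaklyRegular_congr rs |>.1 hN.2)
      (fun j hj => lExact_quotSMulTop P hP ε hε hex r hX.1 hN.1 h j hj) i hi

variable (A) in
theorem exists_augmentation (N : Type u) [AddCommGroup N] [Module A N]
    (Q : ProjectiveResolution (ModuleCat.of A N)) :
    ∃ ε : Q.cochainComplex.X 0 →ₗ[A] N, Function.Surjective ε ∧
      Function.Exact (Q.cochainComplex.d (-1) 0).hom ε := by
  refine ⟨((Q.cochainComplexXIso 0 0 rfl).hom ≫ Q.π.f 0).hom,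
    ((ModuleCat.epi_iff_surjective _).1 inferInstance), ?_⟩
  refine (ShortComplex.ShortExact.moduleCat_exact_iff_function_exact (ShortComplex.mk (Q.cochainComplex.d (-1) 0)
    ((Q.cochainComplexXIso 0 0 rfl).hom ≫ Q.π.f 0) ?_)).1 ?_
  · rw [Q.cochainComplex_d (-1) 0 1 0 rfl rfl]
    simp only [Category.assoc, Iso.inv_hom_id_assoc]
    rw [Q.complex_d_comp_π_f_zero, comp_zero]
  · refine (ShortComplex.exact_iff_of_iso ?_).2 Q.exact₀
    refine ShortComplex.isoMk (Q.cochainComplexXIso (-1) 1 rfl) (Q.cochainComplexXIso 0 0 rfl) (Iso.refl _) ?_ ?_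
    · simp [Q.cochainComplex_d (-1) 0 1 0 rfl rfl]
    · simp

/-- `Tor` of two quotients vanishes if locally one is cut out by a sequence regular on the ring and on the other. -/
theorem subsingleton_tor_of_local (I J : Ideal A)
    (h : ∀ (m : Ideal A) [m.IsMaximal], ∃ (R : Type u) (_ : CommRing R) (_ : Algebra A R)
      (_ : IsLocalization.AtPrime R m) (rs : List R), I.map (algebraMap A R) = Ideal.ofList rs ∧
        IsWeaklyRegular R rs ∧ IsWeaklyRegular (R ⧸ J.map (algebraMap A R)) rs)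
    {M N : Type u} [AddCommGroup M] [Module A M] [AddCommGroup N] [Module A N]
    (eM : (A ⧸ I) ≃ₗ[A] M) (eN : (A ⧸ J) ≃ₗ[A] N) (p : ℕ) : Subsingleton (DRing.Tor A (p + 1) M N) := by
  let Q := projectiveResolution (ModuleCat.of A N)
  let P := Q.cochainComplex
  have hP : DRing.TermwiseFlat P := KF.termwiseFlat_cochainComplex Q
  obtain ⟨ε, hε, hex⟩ := exists_augmentation A N Q
  have hneg : ∀ i : ℤ, i < 0 → P.ExactAt i := fun i hi =>
    (KF.exactAt_iff_of_quasiIso Q.π' i).2 (exactAt_single_obj _ _ _ _ hi.ne)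
  rw [KF.subsingleton_tor_iff M Q p, ← DR.tExact_iff, lExact_iff_tExact, ← lExact_congr P eM]
  choose R hR hAlg hloc rs hI hreg hregJ using h
  let i : ℤ := -((p + 1 : ℕ) : ℤ)
  have hi : i < 0 := by simp [i]; omega
  refine exact_of_isLocalized_maximal
    (fun m (_ : m.IsMaximal) => (R m ⊗[A] (A ⧸ I)) ⊗[A] P.X (i - 1))
    (fun m (_ : m.IsMaximal) => AlgebraTensorModule.rTensor A (P.X (i - 1)) (TensorProduct.mk A (R m) (A ⧸ I) 1))
    (fun m (_ : m.IsMaximal) => (R m ⊗[A] (A ⧸ I)) ⊗[A] P.X i)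
    (fun m (_ : m.IsMaximal) => AlgebraTensorModule.rTensor A (P.X i) (TensorProduct.mk A (R m) (A ⧸ I) 1))
    (fun m (_ : m.IsMaximal) => (R m ⊗[A] (A ⧸ I)) ⊗[A] P.X (i + 1))
    (fun m (_ : m.IsMaximal) => AlgebraTensorModule.rTensor A (P.X (i + 1)) (TensorProduct.mk A (R m) (A ⧸ I) 1))
    _ _ fun m _ => ?_
  letI := hR m
  letI := hAlg m
  haveI := hloc m
  erw [IsLocalizedModule.map_lTensor, IsLocalizedModule.map_lTensor]
  haveI : Module.Flat A (R m) := IsLocalization.flat (R m) m.primeCompl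
  let eX : (R m ⧸ (Ideal.ofList (rs m) • ⊤ : Submodule (R m) (R m))) ≃ₗ[A] R m ⊗[A] (A ⧸ I) :=
    ((Submodule.quotEquivOfEq _ _ (by rw [Ideal.smul_eq_mul, Ideal.mul_top, hI m])).restrictScalars A).trans
      ((Algebra.TensorProduct.quotIdealMapEquivTensorQuot (R m) I).toLinearEquiv.restrictScalars A)
  have eJ : (R m ⧸ J.map (algebraMap A (R m))) ≃ₗ[R m] R m ⊗[A] N :=
    (Algebra.TensorProduct.quotIdealMapEquivTensorQuot (R m) J).toLinearEquiv.trans
      (AlgebraTensorModule.congr (LinearEquiv.refl (R m) (R m)) eN)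
  exact (lExact_congr P eX i).1 (lExact_quotient P hP ε hε hex (rs m) (R m) (hreg m)
    ((eJ.isWeaklyRegular_congr (rs m)).1 (hregJ m))
    (fun j hj => Module.Flat.lTensor_exact (R m) ((DR.function_exact_d P _ _ _ (by omega) rfl).1 (hneg j hj))) i hi)

end GrothLib.TorInter3
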